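import Groth.Agent.KFlatLib.Ghost
import Mathlib.RingTheory.Filtration
import Mathlib.RingTheory.Flat.Basic
import Mathlib.LinearAlgebra.TensorProduct.Basic
import Mathlib.Algebra.Homology.ShortComplex.ModuleCat
import Mathlib.Algebra.Category.ModuleCat.Monoidal.Basic
import Mathlib.CategoryTheory.Monoidal.Preadditive
import Mathlib.Data.Int.Interval

/-!
# Ideal powers kill a complex whose homology is killed by the ideal
-/

set_option linter.style.haveILetI false
set_option backward.isDefEq.respectTransparency false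

universe w u

open CategoryTheory CategoryTheory.Limits MonoidalCategory TensorProduct HomologicalComplex

namespace Groth.Agent.ArtinRees7

variable {A : Type u} [CommRing A]

/-- An ideal as a module. -/
abbrev idl (I : Ideal A) : ModuleCat.{u} A := ModuleCat.of A ↥I

/-- The inclusion of ideals. -/
abbrev idlMap {I I' : Ideal A} (h : I ≤ I') : idl I ⟶ idl I' := ModuleCat.ofHom (Submodule.inclusion h)

/-- Tensoring a complex with an ideal. -/
noncomputable abbrev T (I : Ideal A) :
    CochainComplex (ModuleCat.{u} A) ℤ ⥤ CochainComplex (ModuleCat.{u} A) ℤ :=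
  ((curriedTensor (ModuleCat.{u} A)).obj (idl I)).mapHomologicalComplex (ComplexShape.up ℤ)

/-- The map induced by an inclusion. -/
noncomputable abbrev TMap {I I' : Ideal A} (h : I ≤ I') : T I ⟶ T I' :=
  NatTrans.mapHomologicalComplex ((curriedTensor (ModuleCat.{u} A)).map (idlMap h)) _

/-- Multiplication `I ⊗ M ⟶ M`. -/
noncomputable def mu (I : Ideal A) (M : ModuleCat.{u} A) : ↥I ⊗[A] M →ₗ[A] M :=
  (TensorProduct.lid A M).toLinearMap ∘ₗ I.subtype.rTensor M

lemma mu_tmul (I : Ideal A) (M : ModuleCat.{u} A) (x : I) (v : M) : mu I M (x ⊗ₜ[A] v) = (x : A) • v := by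
  simp [mu]

lemma mu_injective (I : Ideal A) (M : ModuleCat.{u} A) [Module.Flat A M] : Function.Injective (mu I M) :=
  (TensorProduct.lid A M).injective.comp
    (Module.Flat.rTensor_preserves_injective_linearMap _ I.injective_subtype)

lemma range_mu (I : Ideal A) (M : ModuleCat.{u} A) : LinearMap.range (mu I M) = I • (⊤ : Submodule A M) := by
  refine le_antisymm ?_ (Submodule.smul_le.2 fun r hr v _ => ⟨⟨r, hr⟩ ⊗ₜ[A] v, mu_tmul I M _ v⟩)
  rintro _ ⟨t, rfl⟩
  induction t using TensorProduct.induction_on with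
  | zero => rw [map_zero]; exact Submodule.zero_mem _
  | tmul x v => rw [mu_tmul]; exact Submodule.smul_mem_smul x.2 Submodule.mem_top
  | add a b ha hb => rw [map_add]; exact Submodule.add_mem _ ha hb

lemma mu_nat (I : Ideal A) {M N : ModuleCat.{u} A} (f : M ⟶ N) (t : ↥I ⊗[A] M) :
    mu I N ((idl I ◁ f).hom t) = f.hom (mu I M t) := by
  have e : (mu I N).comp (f.hom.lTensor ↥I) = f.hom.comp (mu I M) := TensorProduct.ext' fun x v => by
    simp [mu_tmul, map_smul]
  exact LinearMap.congr_fun e t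

lemma mu_incl {I I' : Ideal A} (h : I ≤ I') (M : ModuleCat.{u} A) (t : ↥I ⊗[A] M) :
    mu I' M ((idlMap h ▷ M).hom t) = mu I M t := by
  have e : (mu I' M).comp ((Submodule.inclusion h).rTensor M) = mu I M := TensorProduct.ext' fun x v => by
    simp [mu_tmul]
  exact LinearMap.congr_fun e t

/-- A map is zero on homology when it sends cycles to boundaries. -/
lemma homologyMap_eq_zero {K L : CochainComplex (ModuleCat.{u} A) ℤ} (f : K ⟶ L) (p q r : ℤ)
    (h : ∀ z : K.X q, (K.d q r).hom z = 0 → ∃ w : L.X p, (L.d p q).hom w = (f.f q).hom z) :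
    homologyMap f q = 0 := by
  rw [← cancel_epi (K.homologyπ q), homologyπ_naturality, comp_zero]
  refine ModuleCat.hom_ext (LinearMap.ext fun y => ?_)
  have hy : (K.d q r).hom ((K.iCycles q).hom y) = 0 :=
    ConcreteCategory.congr_hom (K.iCycles_d q r) y
  obtain ⟨w, hw⟩ := h _ hy
  have e : (cyclesMap f q).hom y = (L.toCycles p q).hom w := by
    refine (ModuleCat.mono_iff_injective (L.iCycles q)).1 inferInstance ?_
    refine Eq.trans ?_ ((ConcreteCategory.congr_hom (L.toCycles_i p q) w).trans hw).symm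
    exact ConcreteCategory.congr_hom (cyclesMap_i f q) y
  rw [ModuleCat.hom_comp, LinearMap.comp_apply, e]
  exact ConcreteCategory.congr_hom (L.toCycles_comp_homologyπ p q) w

/-- Elements killing homology send cycles to boundaries. -/
lemma smul_mem_range {K : CochainComplex (ModuleCat.{u} A) ℤ} (p q r : ℤ) (hp : p + 1 = q) (hr : q + 1 = r)
    (x : A) (hx : ∀ c : ↑(K.homology q), x • c = 0) (z : K.X q) (hz : (K.d q r).hom z = 0) :
    x • z ∈ LinearMap.range (K.d p q).hom := by
  let S := K.sc' p q r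
  let e := K.homologyIsoSc' p q r (by simp; omega) (by simp; omega) ≪≫ S.moduleCatHomologyIso
  let c : S.moduleCatLeftHomologyData.H := S.moduleCatLeftHomologyData.π.hom ⟨z, hz⟩
  have h0 : x • c = 0 := by
    have h1 := congrArg e.hom.hom (hx (e.inv.hom c))
    rw [map_smul, map_zero] at h1
    rwa [show e.hom.hom (e.inv.hom c) = c from ConcreteCategory.congr_hom e.inv_hom_id c] at h1
  have h2 : S.moduleCatLeftHomologyData.π.hom (x • ⟨z, hz⟩) = 0 := (map_smul _ x _).trans h0
  obtain ⟨w, hw⟩ := (Submodule.Quotient.mk_eq_zero _).1 h2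
  exact ⟨w, congrArg Subtype.val hw⟩

variable [IsNoetherianRing A] (K : CochainComplex (ModuleCat.{u} A) ℤ)
  (hfin : ∀ q : ℤ, Module.Finite A (K.X q)) (hproj : ∀ q : ℤ, Module.Projective A (K.X q))
  (J : Ideal A) (hJ : ∀ q : ℤ, ∀ x ∈ J, ∀ c : ↑(K.homology q), x • c = 0)

include hfin hproj hJ in
/-- One degree. -/
lemma exists_shift (q : ℤ) : ∃ c : ℕ, ∀ l k : ℕ, c ≤ k → ∀ h : J ^ (k + l) ≤ J ^ l,
    homologyMap ((TMap h).app K) q = 0 := by
  haveI := hfin q
  let Z : Submodule A (K.X q) := LinearMap.ker (K.d q (q + 1)).hom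
  obtain ⟨c₀, hc₀⟩ := J.exists_pow_inf_eq_pow_smul Z
  refine ⟨c₀ + 1, fun l k hk h => homologyMap_eq_zero _ (q - 1) q (q + 1) fun t ht => ?_⟩
  haveI : Module.Projective A (K.X q) := hproj q
  haveI : Module.Flat A (K.X q) := inferInstance
  let v := mu (J ^ (k + l)) (K.X q) t
  have hvZ : v ∈ Z := by
    refine LinearMap.mem_ker.2 ((mu_nat _ (K.d q (q + 1)) t).symm.trans ?_)
    exact (congrArg (mu _ _) ht).trans (map_zero _)
  have hvJ : v ∈ J ^ (k + l) • (⊤ : Submodule A (K.X q)) ⊓ Z :=
    ⟨(range_mu _ _).le ⟨t, rfl⟩, hvZ⟩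
  rw [hc₀ _ (by omega)] at hvJ
  have hJZ : J • Z ≤ LinearMap.range (K.d (q - 1) q).hom :=
    Submodule.smul_le.2 fun x hx z hz => smul_mem_range (q - 1) q (q + 1) (by omega) rfl x (hJ q x hx) z
      (LinearMap.mem_ker.1 hz)
  have hmem : v ∈ (J ^ l • (⊤ : Submodule A (K.X (q - 1)))).map (K.d (q - 1) q).hom := by
    rw [Submodule.map_smul'', Submodule.map_top]
    refine (Submodule.smul_mono (le_refl (J ^ l)) hJZ) ?_
    rw [← Submodule.smul_assoc, smul_eq_mul, ← pow_succ]
    exact Submodule.smul_mono (Ideal.pow_le_pow_right (by omega)) inf_le_right hvJ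
  obtain ⟨w', hw', hvw⟩ := Submodule.mem_map.1 hmem
  obtain ⟨w, rfl⟩ := (range_mu (J ^ l) (K.X (q - 1))).ge hw'
  refine ⟨w, mu_injective (J ^ l) (K.X q) ?_⟩
  exact (mu_nat _ (K.d (q - 1) q) w).trans (hvw.trans (mu_incl h (K.X q) t).symm)

include hfin hproj hJ in
/-- A high power maps to a low one by zero in the derived category. -/
theorem exists_pow_map_eq_zero [HasDerivedCategory.{w} (ModuleCat.{u} A)] (a b : ℤ)
    (hK : ∀ q : ℤ, q < a ∨ b < q → IsZero (K.X q)) :
    ∃ n : ℕ, ∀ m : ℕ, ∀ h : J ^ (n + m) ≤ J ^ m, DerivedCategory.Q.map ((TMap h).app K) = 0 := by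
  choose c hc using exists_shift K hfin hproj J hJ
  let N : ℕ := (b - a).toNat
  let C : ℕ := (Finset.Icc a b).sup c
  have hz : ∀ (I : Ideal A) (q : ℤ), q < a ∨ b < q → IsZero (((T I).obj K).X q) := fun I q hq =>
    Functor.map_isZero ((curriedTensor (ModuleCat.{u} A)).obj (idl I)) (hK q hq)
  have hhom : ∀ (l : ℕ) (q : ℤ) (h : J ^ (C + l) ≤ J ^ l), homologyMap ((TMap h).app K) q = 0 := by
    intro l q h
    by_cases hq : q ∈ Finset.Icc a b
    · exact hc q l C (Finset.le_sup hq) h
    · refine (ShortComplex.isZero_homology_of_isZero_X₂ (((T (J ^ (C + l))).obj K).sc q) (hz _ q ?_)).eq_of_src _ _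
      simp only [Finset.mem_Icc, not_and_or, not_le] at hq
      exact hq
  refine ⟨(N + 1) * C, fun m h => ?_⟩
  let e : ℕ → ℕ := fun i => (N + 1 - i) * C + m
  have he : ∀ i j, i ≤ j → J ^ e i ≤ J ^ e j := fun i j hij =>
    Ideal.pow_le_pow_right (Nat.add_le_add_right (Nat.mul_le_mul_right _ (by omega)) _)
  let D : ℕ ⥤ DerivedCategory (ModuleCat.{u} A) :=
    { obj := fun i => DerivedCategory.Q.obj ((T (J ^ e i)).obj K)
      map := fun {i j} f => DerivedCategory.Q.map ((TMap (he i j (leOfHom f))).app K)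
      map_id := fun i => by
        rw [← DerivedCategory.Q.map_id]
        refine congrArg _ (HomologicalComplex.hom_ext _ _ fun q => ?_)
        exact MonoidalCategory.id_whiskerRight (idl (J ^ e i)) (K.X q)
      map_comp := fun {i j l} f g => by
        rw [← DerivedCategory.Q.map_comp]
        refine congrArg _ (HomologicalComplex.hom_ext _ _ fun q => ?_)
        exact (MonoidalCategory.comp_whiskerRight (idlMap (he i j (leOfHom f))) (idlMap (he j l (leOfHom g))) (K.X q)) }
  have hgl : ∀ i, (D.obj i).IsGE a ∧ (D.obj i).IsLE (a + N) := by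
    intro i
    haveI : ((T (J ^ e i)).obj K).IsStrictlyGE a :=
      (CochainComplex.isStrictlyGE_iff _ _).2 fun q hq => hz _ q (Or.inl hq)
    haveI : ((T (J ^ e i)).obj K).IsStrictlyLE (a + N) :=
      (CochainComplex.isStrictlyLE_iff _ _).2 fun q hq => hz _ q (Or.inr (by omega))
    exact ⟨inferInstanceAs ((DerivedCategory.Q.obj _).IsGE a), inferInstanceAs ((DerivedCategory.Q.obj _).IsLE _)⟩
  have hstep : ∀ i, i ≤ N → ∀ q, (DerivedCategory.homologyFunctor (ModuleCat.{u} A) q).map
      (D.map (homOfLE (Nat.le_succ i))) = 0 := by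
    intro i hi q
    have hei : e i = C + e (i + 1) := by
      simp only [e, show N + 1 - i = (N + 1 - (i + 1)) + 1 by omega]
      ring
    have h' : J ^ (C + e (i + 1)) ≤ J ^ e (i + 1) := Ideal.pow_le_pow_right (Nat.le_add_left _ _)
    have h0 := hhom (e (i + 1)) q h'
    have hgen : ∀ (s : ℕ) (hs : J ^ s ≤ J ^ e (i + 1)), s = C + e (i + 1) →
        homologyMap ((TMap hs).app K) q = 0 := by
      rintro s hs rfl
      exact h0
    have hn := (DerivedCategory.homologyFunctorFactors (ModuleCat.{u} A) q).hom.naturality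
      ((TMap (he i (i + 1) (Nat.le_succ i))).app K)
    dsimp [D]
    rw [← cancel_mono ((DerivedCategory.homologyFunctorFactors (ModuleCat.{u} A) q).hom.app _), zero_comp]
    refine hn.trans ?_
    exact (congrArg (_ ≫ ·) (hgen _ (he i (i + 1) (Nat.le_succ i)) hei)).trans comp_zero
  have h0 := KFlatLib.comp_eq_zero N a D (fun i _ => (hgl i).1) (fun i _ => (hgl i).2) hstep
  have hlast : J ^ e (N + 1) ≤ J ^ m := by simp [e]
  have hfirst : J ^ ((N + 1) * C + m) ≤ J ^ e 0 := le_of_eq (by simp [e])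
  have : (TMap h).app K = (TMap hfirst).app K ≫ (TMap (he 0 (N + 1) (Nat.zero_le _))).app K ≫ (TMap hlast).app K := by
    refine HomologicalComplex.hom_ext _ _ fun q => ?_
    change idlMap h ▷ K.X q = idlMap hfirst ▷ K.X q ≫ idlMap (he 0 (N + 1) (Nat.zero_le _)) ▷ K.X q ≫ idlMap hlast ▷ K.X q
    rw [← MonoidalCategory.comp_whiskerRight, ← MonoidalCategory.comp_whiskerRight]
    rfl
  rw [this, Functor.map_comp, Functor.map_comp]
  change _ ≫ D.map (homOfLE (Nat.zero_le (N + 1))) ≫ _ = 0
  rw [h0, zero_comp, comp_zero]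

end Groth.Agent.ArtinRees7
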